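import Mathlib
import Cfsg.Agent.Lib.Helper44.Frob3.Defs

/-!
# S4427 package [W]: the number of words of length `m` (`p^j ∣ m`) with `p`-singular product is
divisible by `p^(j+1-a)`
-/

set_option autoImplicit false

namespace Cfsg.Agent.Lib.Helper67.Frob3

universe u

/-- orbits of the cyclic `p`-group generated by `τ`: if `τ ^ (p ^ k)` has no fixed point, then
`p ^ (k + 1)` divides the number of points -/
theorem card_dvd_of_pow_fpf {X : Type*} [Finite X] (p : ℕ) [hp : Fact p.Prime]
    (τ : Equiv.Perm X) (n k : ℕ) (hτ : τ ^ (p ^ n) = 1) (hfpf : ∀ x, (τ ^ (p ^ k)) x ≠ x) :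
    p ^ (k + 1) ∣ Nat.card X := by
  classical
  have hH : IsPGroup p (Subgroup.zpowers τ) := by
    obtain ⟨e, -, he⟩ := (Nat.dvd_prime_pow hp.out).mp (orderOf_dvd_of_pow_eq_one hτ)
    exact IsPGroup.of_card (n := e) (by rw [Nat.card_zpowers, he])
  have : Fintype (Quotient (MulAction.orbitRel (Subgroup.zpowers τ) X)) := Fintype.ofFinite _
  rw [Nat.card_congr (MulAction.selfEquivSigmaOrbits (Subgroup.zpowers τ) X), Nat.card_sigma]
  apply Finset.dvd_sum
  intro ω _
  obtain ⟨e, he⟩ := hH.card_orbit (Quotient.out ω)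
  rw [he]
  apply pow_dvd_pow
  by_contra hlt
  apply hfpf (Quotient.out ω)
  have h1 := Subgroup.pow_index_mem (MulAction.stabilizer (Subgroup.zpowers τ) (Quotient.out ω))
    (⟨τ, Subgroup.mem_zpowers τ⟩ : Subgroup.zpowers τ)
  rw [MulAction.index_stabilizer, ← Nat.card_coe_set_eq, he] at h1
  have h2 : (τ ^ (p ^ e)) (Quotient.out ω) = Quotient.out ω := h1
  have h3 : τ ^ (p ^ k) = (τ ^ (p ^ e)) ^ (p ^ (k - e)) := by
    rw [← pow_mul, ← pow_add, Nat.add_sub_cancel' (by omega)]
  rw [h3]
  exact Equiv.Perm.pow_apply_eq_self_of_apply_eq_self h2 _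

section
variable {G : Type u} [Group G] {ι : Type u} (σ : ι → G)

/-- the value of a word -/
def val (l : List ι) : G := (l.map σ).prod

theorem val_append (l l' : List ι) : val σ (l ++ l') = val σ l * val σ l' := by
  simp [val]

theorem orderOf_val_rotate (l : List ι) (k : ℕ) :
    orderOf (val σ (l.rotate k)) = orderOf (val σ l) := by
  rw [List.rotate_eq_drop_append_take_mod, val_append]
  conv_rhs => rw [← List.take_append_drop (k % l.length) l, val_append]
  exact SemiconjBy.orderOf_eq (val σ (l.take (k % l.length)))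
    (by unfold SemiconjBy; rw [mul_assoc])

theorem eq_flatten_replicate : ∀ (q : ℕ) (u w : List ι), w.length = q * u.length →
    w ++ u = u ++ w → w = (List.replicate q u).flatten := by
  intro q
  induction q with
  | zero =>
    intro u w hlen _
    have hw : w = [] := List.length_eq_zero_iff.mp (by simpa using hlen)
    simp [hw]
  | succ q ih =>
    intro u w hlen hcomm
    have hpre : u <+: w := by
      apply List.prefix_of_prefix_length_le (l₃ := w ++ u)
      · rw [hcomm]; exact List.prefix_append u w
      · exact List.prefix_append w u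
      · rw [hlen]; nlinarith
    obtain ⟨w', rfl⟩ := hpre
    have hcomm' : w' ++ u = u ++ w' := by
      have h' : u ++ (w' ++ u) = u ++ (u ++ w') := by simpa [List.append_assoc] using hcomm
      exact List.append_cancel_left h'
    have hlen' : w'.length = q * u.length := by
      simp only [List.length_append] at hlen
      rw [Nat.succ_mul] at hlen
      omega
    rw [ih u w' hlen' hcomm', List.replicate_succ, List.flatten_cons]

theorem val_of_rotate_eq_self (l : List ι) (d Q : ℕ) (hQ : 0 < Q) (hlen : l.length = d * Q)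
    (hrot : l.rotate d = l) : val σ l = (val σ (l.take d)) ^ Q := by
  have hd : d ≤ l.length := by rw [hlen]; exact Nat.le_mul_of_pos_right d hQ
  have h1 : l.drop d ++ l.take d = l.take d ++ l.drop d := by
    rw [← List.rotate_eq_drop_append_take hd, hrot, List.take_append_drop]
  obtain ⟨Q', rfl⟩ : ∃ Q', Q = Q' + 1 := ⟨Q - 1, by omega⟩
  have h2 : l.drop d = (List.replicate Q' (l.take d)).flatten := by
    apply eq_flatten_replicate _ _ _ _ h1
    rw [List.length_drop, List.length_take, Nat.min_eq_left hd, hlen, Nat.mul_succ,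
      Nat.add_sub_cancel, Nat.mul_comm]
  have h3 : l = (List.replicate (Q' + 1) (l.take d)).flatten := by
    conv_lhs => rw [← List.take_append_drop d l, h2]
    rw [List.replicate_succ, List.flatten_cons]
  conv_lhs => rw [h3]
  simp [val, List.map_flatten, List.prod_flatten, List.map_replicate, List.prod_replicate]

theorem not_dvd_orderOf_pow [Finite G] (p : ℕ) (hp : p.Prime) (g : G) :
    ¬ p ∣ orderOf (g ^ (p ^ (Nat.card G).factorization p)) := by
  intro h
  have hN : Nat.card G ≠ 0 := Nat.card_pos.ne'
  have h1 : (g ^ (p ^ (Nat.card G).factorization p)) ^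
      (Nat.card G / p ^ (Nat.card G).factorization p) = 1 := by
    rw [← pow_mul, Nat.ordProj_mul_ordCompl_eq_self (Nat.card G) p]
    exact pow_card_eq_one'
  have h2 := orderOf_dvd_of_pow_eq_one h1
  exact Nat.not_dvd_ordCompl hp hN (h.trans h2)

end

theorem pkgWords : Cfsg.Agent.Lib.Helper44.Frob3.PkgWords.{u} := by
  intro G _ _ p hp ι _ σ j m hjm
  classical
  have : Fact p.Prime := ⟨hp⟩
  rcases Nat.lt_or_ge j ((Nat.card G).factorization p) with hja | hja
  · have h0 : j + 1 - (Nat.card G).factorization p = 0 := by omega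
    rw [h0, pow_zero]
    exact one_dvd _
  obtain ⟨m', rfl⟩ := hjm
  have hcard : Nat.card {f : Fin (p ^ j * m') → ι //
        p ∣ orderOf (List.ofFn fun i => σ (f i)).prod} =
      Nat.card {v : List.Vector ι (p ^ j * m') // p ∣ orderOf (val σ v.toList)} := by
    apply Nat.card_congr
    refine Equiv.subtypeEquiv (Equiv.vectorEquivFin ι (p ^ j * m')).symm ?_
    intro f
    have h1 : ((Equiv.vectorEquivFin ι (p ^ j * m')).symm f).toList = List.ofFn f :=
      List.Vector.toList_ofFn f
    rw [h1]
    simp only [val, List.map_ofFn]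
    rfl
  rw [hcard]
  let rot : ℕ → {v : List.Vector ι (p ^ j * m') // p ∣ orderOf (val σ v.toList)} →
      {v : List.Vector ι (p ^ j * m') // p ∣ orderOf (val σ v.toList)} := fun k v =>
    ⟨⟨v.1.1.rotate k, (List.length_rotate _ _).trans v.1.2⟩, by
      show p ∣ orderOf (val σ (v.1.1.rotate k))
      rw [orderOf_val_rotate]
      exact v.2⟩
  have rot_rot : ∀ j' k v, rot k (rot j' v) = rot (j' + k) v := fun j' k v =>
    Subtype.ext (Subtype.ext (List.rotate_rotate _ j' k))
  have rot_len : ∀ v, rot (p ^ j * m') v = v := fun v =>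
    Subtype.ext (Subtype.ext ((congrArg _ v.1.2.symm).trans (List.rotate_length _)))
  have rot_zero : ∀ v, rot 0 v = v := fun v =>
    Subtype.ext (Subtype.ext (List.rotate_zero _))
  have hm'le : m' ≤ p ^ j * m' := Nat.le_mul_of_pos_left m' (pow_pos hp.pos j)
  let τ : Equiv.Perm {v : List.Vector ι (p ^ j * m') // p ∣ orderOf (val σ v.toList)} :=
    Equiv.mk (rot m') (rot (p ^ j * m' - m'))
      (fun v => by rw [rot_rot, Nat.add_sub_cancel' hm'le, rot_len])
      (fun v => by rw [rot_rot, Nat.sub_add_cancel hm'le, rot_len])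
  have hτ : ∀ k v, (τ ^ k) v = rot (k * m') v := by
    intro k
    induction k with
    | zero =>
      intro v
      rw [pow_zero, Nat.zero_mul, rot_zero]
      rfl
    | succ k ih =>
      intro v
      rw [pow_succ, Equiv.Perm.mul_apply, ih, Nat.succ_mul]
      show rot (k * m') (rot m' v) = _
      rw [rot_rot, Nat.add_comm]
  have h := card_dvd_of_pow_fpf p τ j (j - (Nat.card G).factorization p) ?_ ?_
  · have e : j + 1 - (Nat.card G).factorization p = j - (Nat.card G).factorization p + 1 := by
      omega
    rw [e]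
    exact h
  · ext v
    rw [hτ, rot_len]
    rfl
  · intro v hv
    rw [hτ] at hv
    have hrot : v.1.1.rotate (p ^ (j - (Nat.card G).factorization p) * m') = v.1.1 :=
      congrArg (fun w : {v : List.Vector ι (p ^ j * m') // p ∣ orderOf (val σ v.toList)} =>
        w.1.1) hv
    have hlen : v.1.1.length = (p ^ (j - (Nat.card G).factorization p) * m') *
        p ^ (Nat.card G).factorization p := by
      rw [v.1.2]
      calc p ^ j * m' = p ^ (j - (Nat.card G).factorization p + (Nat.card G).factorization p)
            * m' := by rw [Nat.sub_add_cancel hja]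
        _ = _ := by rw [pow_add]; ring
    have hval := val_of_rotate_eq_self σ v.1.1 _ _ (pow_pos hp.pos _) hlen hrot
    have hv2 : p ∣ orderOf (val σ v.1.1) := v.2
    rw [hval] at hv2
    exact not_dvd_orderOf_pow p hp _ hv2

example : Cfsg.Agent.Lib.Helper44.Frob3.PkgWords.{3} := pkgWords
example : Cfsg.Agent.Lib.Helper44.Frob3.PkgWords.{0} := pkgWords

end Cfsg.Agent.Lib.Helper67.Frob3
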